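import Groth.Prelude.Def_Fitting
import Mathlib.LinearAlgebra.Matrix.Adjugate
import Mathlib.LinearAlgebra.Matrix.Block
import Mathlib.RingTheory.Finiteness.Defs
import Mathlib.Algebra.Module.FinitePresentation

/-!
Fitting ideals: independence of the generating tuple, determinants with rows in spanning sets.
-/

set_option autoImplicit false
universe u v

open Matrix

namespace Groth.Agent.FittIdeal

variable {R : Type u} [CommRing R] {M : Type v} [AddCommGroup M] [Module R M]

/-- Determinants whose first `n - r` rows are relations of the tuple `x`. -/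
def dIdeal {n : ℕ} (x : Fin n → M) (r : ℕ) : Ideal R :=
  Ideal.span {d | ∃ a : Matrix (Fin n) (Fin n) R,
    (∀ i : Fin n, (i : ℕ) < n - r → ∑ j, a i j • x j = 0) ∧ d = a.det}

theorem det_mem {n : ℕ} {x : Fin n → M} {r : ℕ} (a : Matrix (Fin n) (Fin n) R)
    (ha : ∀ i : Fin n, (i : ℕ) < n - r → ∑ j, a i j • x j = 0) : a.det ∈ dIdeal x r :=
  Ideal.subset_span ⟨a, ha, rfl⟩

theorem dIdeal_mono {n : ℕ} (x : Fin n → M) {r s : ℕ} (h : r ≤ s) : (dIdeal x r : Ideal R) ≤ dIdeal x s :=
  Ideal.span_le.2 fun _ ⟨a, ha, hd⟩ => hd ▸ det_mem a fun i hi => ha i (by omega)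

theorem dIdeal_eq_top {n : ℕ} (x : Fin n → M) {r : ℕ} (h : n ≤ r) : (dIdeal x r : Ideal R) = ⊤ :=
  (Ideal.eq_top_iff_one _).2 (by
    simpa using det_mem (x := x) (r := r) (1 : Matrix (Fin n) (Fin n) R) (fun i hi => absurd hi (by omega)))

theorem dIdeal_snoc_zero {n : ℕ} (x : Fin n → M) (r : ℕ) :
    (dIdeal (Fin.snoc x (0 : M) : Fin (n + 1) → M) r : Ideal R) = dIdeal x r := by
  refine le_antisymm (Ideal.span_le.2 ?_) (Ideal.span_le.2 ?_)
  · rintro _ ⟨a, ha, rfl⟩
    rw [Matrix.det_succ_column a (Fin.last n)]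
    refine Submodule.sum_mem _ fun i _ => Ideal.mul_mem_left _ _ ?_
    refine det_mem _ fun k hk => ?_
    have hlt : ((i.succAbove k : Fin (n + 1)) : ℕ) ≤ (k : ℕ) + 1 := by
      rcases lt_or_ge k.castSucc i with h | h
      · simp [Fin.succAbove_of_castSucc_lt _ _ h]
      · simp [Fin.succAbove_of_le_castSucc _ _ h]
    have := ha (i.succAbove k) (by omega)
    rw [Fin.sum_univ_castSucc] at this
    simpa using this
  · rintro _ ⟨a, ha, rfl⟩
    let b : Matrix (Fin (n + 1)) (Fin (n + 1)) R := Matrix.of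
      (Fin.cons (Fin.snoc (0 : Fin n → R) 1) (fun i => Fin.snoc (a i) 0))
    have hb : b.det = (-1) ^ ((0 : Fin (n + 1)).val + (Fin.last n).val) * a.det := by
      rw [Matrix.det_succ_column b (Fin.last n), Fin.sum_univ_succ]
      have h1 : b.submatrix Fin.succ Fin.castSucc = a := by
        ext i j; simp [b]
      simp [b] at h1 ⊢
      rw [h1]
    have hbm : b.det ∈ dIdeal (Fin.snoc x (0 : M) : Fin (n + 1) → M) r := by
      refine det_mem b fun i hi => ?_
      rw [Fin.sum_univ_castSucc]
      cases i using Fin.cases with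
      | zero => simp [b]
      | succ i =>
        simp only [Fin.val_succ] at hi
        simpa [b] using ha i (by omega)
    rw [hb] at hbm
    have := Ideal.mul_mem_left _ ((-1 : R) ^ ((0 : Fin (n + 1)).val + (Fin.last n).val)) hbm
    rwa [← mul_assoc, ← pow_add, ← two_mul, pow_mul, neg_one_sq, one_pow, one_mul] at this

theorem dIdeal_snoc_le {n : ℕ} (x : Fin n → M) (y y' : M) (c : Fin n → R) (hy : y = y' + ∑ i, c i • x i) (r : ℕ) :
    (dIdeal (Fin.snoc x y : Fin (n + 1) → M) r : Ideal R) ≤ dIdeal (Fin.snoc x y' : Fin (n + 1) → M) r := by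
  refine Ideal.span_le.2 ?_
  rintro _ ⟨a, ha, rfl⟩
  let b : Matrix (Fin (n + 1)) (Fin (n + 1)) R :=
    Matrix.of fun i => Fin.snoc (fun j : Fin n => a i j.castSucc + c j * a i (Fin.last n)) (a i (Fin.last n))
  have hdet : b.det = a.det := by
    rw [← Matrix.det_transpose b, ← Matrix.det_transpose a]
    refine Matrix.det_eq_of_forall_row_eq_smul_add_const (Fin.snoc c 0) (Fin.last n) (by simp) fun i j => ?_
    cases i using Fin.lastCases with
    | last => simp [b, Matrix.transpose_apply]
    | cast i => simp [b, Matrix.transpose_apply]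
  rw [← hdet]
  refine det_mem b fun i hi => ?_
  have := ha i hi
  rw [Fin.sum_univ_castSucc] at this ⊢
  simp only [Fin.snoc_castSucc, Fin.snoc_last, hy, smul_add, Finset.smul_sum, smul_smul] at this
  simp only [b, Matrix.of_apply, Fin.snoc_castSucc, Fin.snoc_last, add_smul, Finset.sum_add_distrib]
  rw [← this]
  simp only [mul_comm (a i (Fin.last n))]
  abel

theorem dIdeal_snoc {n : ℕ} (x : Fin n → M) (y : M) (hy : y ∈ Submodule.span R (Set.range x)) (r : ℕ) :
    (dIdeal (Fin.snoc x y : Fin (n + 1) → M) r : Ideal R) = dIdeal x r := by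
  obtain ⟨c, hc⟩ := (Submodule.mem_span_range_iff_exists_fun R).1 hy
  rw [← dIdeal_snoc_zero x r]
  refine le_antisymm (dIdeal_snoc_le x y 0 c (by rw [zero_add, hc]) r)
    (dIdeal_snoc_le x 0 y (-c) ?_ r)
  simp [← hc]

theorem dIdeal_append {n m : ℕ} (x : Fin n → M) (y : Fin m → M) (hx : Submodule.span R (Set.range x) = ⊤) (r : ℕ) :
    (dIdeal (Fin.append x y) r : Ideal R) = dIdeal x r := by
  induction m with
  | zero => congr 1; ext i; simp [Fin.append, Fin.addCases]; rfl
  | succ m ih =>
    have h : Fin.append x y = Fin.snoc (Fin.append x (Fin.init y)) (y (Fin.last m)) := by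
      rw [← Fin.append_snoc, Fin.snoc_init_self]
    rw [h]
    refine (dIdeal_snoc _ _ ?_ r).trans (ih (Fin.init y))
    have : Submodule.span R (Set.range x) ≤ Submodule.span R (Set.range (Fin.append x (Fin.init y))) :=
      Submodule.span_mono (by rintro _ ⟨i, rfl⟩; exact ⟨Fin.castAdd m i, Fin.append_left _ _ i⟩)
    exact this (hx ▸ Submodule.mem_top)

theorem dIdeal_comp_le {n m : ℕ} (x : Fin n → M) (e : Fin m ≃ Fin n) (r : ℕ) :
    (dIdeal x r : Ideal R) ≤ dIdeal (x ∘ e) r := by
  obtain rfl : m = n := by simpa using Fintype.card_congr e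
  refine Ideal.span_le.2 ?_
  rintro _ ⟨a, ha, rfl⟩
  have h := det_mem (x := x ∘ e) (r := r) (a.submatrix id e) fun i hi => by
    rw [← ha i hi]
    exact Equiv.sum_comp e (fun j => a i j • x j)
  rw [Matrix.det_permute'] at h
  have := Ideal.mul_mem_left _ ((Equiv.Perm.sign e : ℤ) : R) h
  rwa [← mul_assoc, ← Int.cast_mul, ← Units.val_mul, Int.units_mul_self, Units.val_one, Int.cast_one, one_mul] at this

theorem dIdeal_indep {n m : ℕ} (x : Fin n → M) (y : Fin m → M) (hx : Submodule.span R (Set.range x) = ⊤)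
    (hy : Submodule.span R (Set.range y) = ⊤) (r : ℕ) : (dIdeal x r : Ideal R) = dIdeal y r := by
  have key : ∀ {n m : ℕ} (x : Fin n → M) (y : Fin m → M),
      Fin.append y x ∘ (finAddFlip : Fin (n + m) ≃ Fin (m + n)) = Fin.append x y := by
    intro n m x y
    funext i
    induction i using Fin.addCases with
    | left i => simp
    | right i => simp
  rw [← dIdeal_append x y hx r, ← dIdeal_append y x hy r]
  refine le_antisymm ?_ ?_
  · conv_rhs => rw [← key y x]
    exact dIdeal_comp_le _ _ r
  · conv_rhs => rw [← key x y]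
    exact dIdeal_comp_le _ _ r

theorem ideal_eq {M : Type v} [AddCommGroup M] [Module R M] {n : ℕ} (x : Fin n → M)
    (hx : Submodule.span R (Set.range x) = ⊤) (r : ℕ) : Fitt.ideal R M r = dIdeal x r := by
  refine le_antisymm (Ideal.span_le.2 ?_) (Ideal.span_mono fun _ ⟨a, ha, hd⟩ => ⟨n, x, a, hx, ha, hd⟩)
  rintro _ ⟨m, y, a, hy, ha, rfl⟩
  rw [dIdeal_indep x y hx hy r]
  exact det_mem a ha

/-- A determinant whose rows lie in spans lies in the ideal of determinants with rows in the spanning sets. -/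
theorem det_mem_span {n : ℕ} (T : Fin n → Set (Fin n → R)) (a : Matrix (Fin n) (Fin n) R)
    (ha : ∀ i, a i ∈ Submodule.span R (T i)) :
    a.det ∈ Ideal.span {d | ∃ b : Matrix (Fin n) (Fin n) R, (∀ i, b i ∈ T i) ∧ d = b.det} := by
  classical
  suffices h : ∀ (s : Finset (Fin n)) (a : Matrix (Fin n) (Fin n) R), (∀ i, a i ∈ Submodule.span R (T i)) →
      (∀ i ∉ s, a i ∈ T i) →
      a.det ∈ Ideal.span {d | ∃ b : Matrix (Fin n) (Fin n) R, (∀ i, b i ∈ T i) ∧ d = b.det} from
    h Finset.univ a ha (fun i hi => absurd (Finset.mem_univ i) hi)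
  intro s
  induction s using Finset.induction_on with
  | empty => exact fun a _ h => Ideal.subset_span ⟨a, fun i => h i (Finset.notMem_empty i), rfl⟩
  | insert k s hk ih =>
    intro a ha h
    let L : (Fin n → R) →ₗ[R] R :=
      { toFun := fun v => (a.updateRow k v).det
        map_add' := Matrix.det_updateRow_add a k
        map_smul' := fun c v => Matrix.det_updateRow_smul a k c v }
    have hL : Submodule.span R (T k) ≤ Submodule.comap L
        (Ideal.span {d | ∃ b : Matrix (Fin n) (Fin n) R, (∀ i, b i ∈ T i) ∧ d = b.det}) := by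
      refine Submodule.span_le.2 fun v hv => ih (a.updateRow k v) (fun i => ?_) fun i hi => ?_
      all_goals rcases eq_or_ne i k with rfl | hik
      · rw [Matrix.updateRow_self]; exact Submodule.subset_span hv
      · rw [Matrix.updateRow_ne hik]; exact ha i
      · rw [Matrix.updateRow_self]; exact hv
      · rw [Matrix.updateRow_ne hik]; exact h i (by simp [hik, hi])
    have := hL (ha k)
    simpa [L, Matrix.updateRow_eq_self] using this

/-- The standard vectors and the generators of the relation module cut out the Fitting ideal. -/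
theorem dIdeal_eq_span {n : ℕ} (x : Fin n → M) (r : ℕ) (G : Set (Fin n → R))
    (hG : Submodule.span R G = LinearMap.ker (Fintype.linearCombination R x)) :
    (dIdeal x r : Ideal R) = Ideal.span {d | ∃ b : Matrix (Fin n) (Fin n) R,
      (∀ i : Fin n, b i ∈ if (i : ℕ) < n - r then G else Set.range fun c => (Pi.single c (1 : R) : Fin n → R)) ∧ d = b.det} := by
  have hrel : ∀ v : Fin n → R, v ∈ Submodule.span R G ↔ ∑ j, v j • x j = 0 := fun v => by
    rw [hG, LinearMap.mem_ker, Fintype.linearCombination_apply]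
  refine le_antisymm (Ideal.span_le.2 ?_) (Ideal.span_le.2 ?_)
  · rintro _ ⟨a, ha, rfl⟩
    refine det_mem_span _ a fun i => ?_
    split
    · exact (hrel _).2 (ha i ‹_›)
    · have : Submodule.span R (Set.range fun c => (Pi.single c (1 : R) : Fin n → R)) = ⊤ := by
        convert (Pi.basisFun R (Fin n)).span_eq using 3
        ext c; simp
      rw [this]; exact Submodule.mem_top
  · rintro _ ⟨b, hb, rfl⟩
    refine det_mem b fun i hi => (hrel _).1 (Submodule.subset_span ?_)
    simpa [hi] using hb i

end Groth.Agent.FittIdeal
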